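import Cfsg.Agent.H486.US.All
import Cfsg.Agent.H767.U6.Cover
import Cfsg.Agent.S2091

/-!
# Ore's theorem for the covers of `U₆(2)`, noncentral elements (helper486)

`rowN_psu : RowN (PSU 6 F 2)` for every field with four elements.
-/

set_option autoImplicit false
set_option linter.unusedSectionVars false

namespace Cfsg.Agent.H486.US

open Subgroup Cfsg Cfsg.Agent.H777.Ore Cfsg.Agent.H51.Mult Cfsg.Agent.H68.Bounds Cfsg.Agent.H6.QO
open Cfsg.Agent.SporadicStructure.UnitTwo (exists_omega)
open Cfsg.Agent.ClassicalGeometry.UnitAutBasic (pr pr_surjective)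

universe u v w

theorem isC_all {F : Type} [Field F] [Fintype F] (hF : Fintype.card F = 2 ^ 2) {L : Type} [Group L] [Finite L]
    {φ : L →* SU 6 F 2} (hφ : PCE φ) (h2 : IsPGroup 2 φ.ker) {y : L} (hy : φ y ∉ center (SU 6 F 2)) : IsC y := by
  obtain ⟨ω, hω⟩ := exists_omega hF
  exact isC_of_cover hω hF (φ y) (H767.U6.cover hF hω (φ y)) hy hφ h2 rfl

theorem rowN_type {F : Type} [Field F] [Fintype F] (hF : Fintype.card F = 2 ^ 2) : RowN (PSU 6 F 2) := by
  have hA := Cfsg.Agent.S2091.result (F := F) (hF.trans (by norm_num))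
  obtain ⟨⟨Γ, _, _, σ, hst, ⟨e⟩⟩, -⟩ := id hA
  obtain ⟨hpr, hpr3⟩ := Cfsg.Agent.H133.USixMult.pce_pr hF
  have hσ : PCE σ := PCE.of_stem hst hpr.perf_base
  have hc : Nat.card σ.ker = 12 := by
    rw [Nat.card_congr e.toEquiv]
    simp [Nat.card_eq_fintype_card]
  obtain ⟨D, _, f, g, hf, hg, hfg, hD, hfin⟩ := exists_common hσ hpr
  have h12 : Nat.card (Multiplicative (ZMod 3 × ZMod 2 × ZMod 2)) = 12 := by simp [Nat.card_eq_fintype_card]
  haveI : Finite D := hfin inferInstance inferInstance
  have h1 := H990.TC.card_ker_dvd hA hD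
  rw [h12] at h1
  have h2 : Nat.card (σ.comp f).ker = 12 := by
    have e1 := card_ker_comp (ρ := σ) hf.surj
    rw [hc] at e1
    have hpos : 0 < Nat.card f.ker := Nat.card_pos
    have h3 := Nat.le_of_dvd (by norm_num) h1
    rw [e1] at h3
    have h4 : Nat.card f.ker = 1 := by omega
    rw [e1, h4]
  have h3 : Nat.card g.ker = 4 := by
    have e1 := card_ker_comp (ρ := pr 6 F 2) hg.surj
    rw [← hfg, h2, hpr3] at e1
    omega
  have h4 : IsPGroup 2 g.ker := IsPGroup.of_card (n := 2) (by rw [h3]; norm_num)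
  refine RowN.of_univ hA hD (by rw [h2, h12]) fun y hy => isC_all hF hg h4 (y := y) fun hc => hy ?_
  refine H109.US.mem_center_of_perfect hg.perf fun x => hg.cen ?_
  rw [MonoidHom.mem_ker, map_commutatorElement, commutatorElement_eq_one_iff_mul_comm]
  exact (mem_center_iff.1 hc _).symm

/-- **Every noncentral element of every finite perfect central extension of `U₆(2)` is a commutator.** -/
theorem rowN_psu {F : Type v} [Field F] [Fintype F] (hF : Fintype.card F = 4) : RowN (PSU 6 F 2) := by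
  obtain ⟨E, _, _, hE⟩ : ∃ (E : Type) (_ : Field E) (_ : Fintype E), Fintype.card E = 2 ^ 2 :=
    ⟨GaloisField 2 2, inferInstance, Fintype.ofFinite _, by
      letI := Fintype.ofFinite (GaloisField 2 2)
      rw [← GaloisField.card 2 2 (by norm_num), Nat.card_eq_fintype_card]⟩
  exact (rowN_type hE).congr (Cfsg.Agent.LieClassical.FieldTransfer.psuCongr 6 2
    (FiniteField.ringEquivOfCardEq (hE.trans (hF.trans (by norm_num)).symm)))

end Cfsg.Agent.H486.US
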