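import Cfsg.Agent.H486.US.Rel

/-!
# Word calculus for the transvection lifts of `PSU₆(2)`: data (helper486)
-/

set_option autoImplicit false
set_option maxRecDepth 100000

namespace Cfsg.Agent.H486.US

/-- the scalar `ω` as a word -/
def wom : List V6 := [⟨.o, .o, .z, .z, .z, .z⟩, ⟨.o, .w, .z, .z, .z, .z⟩, ⟨.o, .o, .z, .z, .z, .z⟩, ⟨.z, .o, .o, .z, .z, .z⟩,
  ⟨.o, .w, .z, .z, .z, .z⟩, ⟨.o, .o, .z, .z, .z, .z⟩, ⟨.z, .o, .o, .z, .z, .z⟩, ⟨.o, .o, .z, .z, .z, .z⟩,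
  ⟨.z, .z, .z, .o, .o, .z⟩, ⟨.z, .z, .z, .o, .w, .z⟩, ⟨.z, .z, .z, .o, .o, .z⟩, ⟨.z, .z, .z, .z, .o, .o⟩,
  ⟨.z, .z, .z, .o, .w, .z⟩, ⟨.z, .z, .z, .o, .o, .z⟩, ⟨.z, .z, .z, .z, .o, .o⟩, ⟨.z, .z, .z, .o, .o, .z⟩]

theorem iso_wom : iso wom = true := by decide +kernel

def v_ns1 : List V6 := [1480, 1071, 1169, 1420, 1941, 1529].map V6.d4
def u_ns1 : List V6 := [1498, 1693, 67].map V6.d4
def p_ns1 : List Op := [.g 4, .g 5, .c 6, .g 2, .g 3, .g 4, .g 5, .c 6]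
def s_ns1 : List V6 := [2032, 465, 370].map V6.d4
def q_ns1 : List Op := [.h 0, .g 1, .c 2, .g 1, .c 2, .c 0]
def r_ns1 : List V6 := (v_ns1.map (actW u_ns1)) ++ v_ns1.reverse
theorem iv_ns1 : iso v_ns1 = true := by decide +kernel
theorem iu_ns1 : iso u_ns1 = true := by decide +kernel
theorem m_ns1 : ∀ x ∈ bas, actW (u_ns1 ++ v_ns1) x = actW (v_ns1 ++ u_ns1) x := by decide +kernel
theorem c_ns1 : chkQ r_ns1 p_ns1 1 s_ns1 .o q_ns1 = true := by decide +kernel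

def v_ns2 : List V6 := [1480, 1071, 1169, 1420, 1941, 1529].map V6.d4
def u_ns2 : List V6 := [1231, 1513, 1429, 1569, 384, 1736].map V6.d4
def p_ns2 : List Op := [.g 6, .h 5, .g 6, .g 7, .c 8, .g 4, .h 5, .g 6, .g 7, .c 8, .g 4]
def s_ns2 : List V6 := [1265, 1668, 1070, 1769].map V6.d4
def q_ns2 : List Op := [.g 2, .c 3, .g 1, .c 2, .c 0]
def r_ns2 : List V6 := (v_ns2.map (actW u_ns2)) ++ v_ns2.reverse
theorem iv_ns2 : iso v_ns2 = true := by decide +kernel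
theorem iu_ns2 : iso u_ns2 = true := by decide +kernel
theorem m_ns2 : ∀ x ∈ bas, actW (u_ns2 ++ v_ns2) x = actW (v_ns2 ++ u_ns2) x := by decide +kernel
theorem c_ns2 : chkQ r_ns2 p_ns2 1 s_ns2 .w q_ns2 = true := by decide +kernel

def v_wt000 : List V6 := [1799, 1260, 1898, 1922, 1412].map V6.d4
def u_wt000 : List V6 := [1701, 1152, 1495, 1470, 1893, 1878].map V6.d4
def p_wt000 : List Op := [.g 11, .c 12, .g 14, .c 15, .g 15, .c 16, .g 18, .c 19, .g 6, .h 5, .g 0, .g 1, .g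
  2, .g 3, .g 4, .c 5, .h 3, .h 4, .c 5, .g 11, .h 12, .g 6, .g 7, .g 8, .g 9, .g 10, .g 11, .c 12, .h 3, .g 5,
  .h 4, .g 5, .g 6, .c 7, .h 5, .g 4, .l 5 .o, .h 1, .g 2, .g 3, .c 4, .h 0, .h 1, .g 2, .g 3, .g 4, .c 5, .g
  0, .c 1, .g 0, .c 1, .c 0]
def r_wt000 : List V6 := (v_wt000.map (actW u_wt000)) ++ v_wt000.reverse ++ [E0] ++ wom.reverse
theorem iv_wt000 : iso v_wt000 = true := by decide +kernel
theorem iu_wt000 : iso u_wt000 = true := by decide +kernel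
theorem m_wt000 : ∀ x ∈ bas, actW (u_wt000 ++ v_wt000) x = V6.smul .w (actW (E0 :: (v_wt000 ++ u_wt000)) x) := by decide +kernel
theorem c_wt000 : chk r_wt000 p_wt000 = true := by decide +kernel

def v_wt011 : List V6 := [1672, 1366, 1180, 462, 448].map V6.d4
def u_wt011 : List V6 := [117, 1917, 1945, 1439, 404, 1886].map V6.d4
def p_wt011 : List Op := [.g 11, .c 12, .g 14, .c 15, .g 15, .c 16, .g 18, .c 19, .g 5, .g 6, .g 7, .g 8, .g
  9, .g 10, .c 11, .g 13, .h 14, .g 9, .g 10, .g 11, .g 12, .g 13, .c 14, .h 3, .g 4, .h 5, .g 6, .g 7, .g 8,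
  .g 9, .g 10, .g 11, .c 12, .g 5, .h 4, .h 9, .g 5, .g 6, .g 7, .g 8, .c 9, .h 3, .g 2, .l 3 .w, .h 5, .g 2,
  .g 3, .g 4, .c 5]
def s_wt011 : List V6 := [272, 1036, 1289, 1766, 344].map V6.d4
def q_wt011 : List Op := [.h 0, .g 1, .c 2, .g 1, .c 2, .c 0]
def r_wt011 : List V6 := (v_wt011.map (actW u_wt011)) ++ v_wt011.reverse ++ [E0] ++ wom.reverse
theorem iv_wt011 : iso v_wt011 = true := by decide +kernel
theorem iu_wt011 : iso u_wt011 = true := by decide +kernel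
theorem m_wt011 : ∀ x ∈ bas, actW (u_wt011 ++ v_wt011) x = V6.smul .w (actW (E0 :: (v_wt011 ++ u_wt011)) x) := by decide +kernel
theorem c_wt011 : chkQ r_wt011 p_wt011 3 s_wt011 .w q_wt011 = true := by decide +kernel

def v_wt101 : List V6 := [448, 1604, 444, 1626, 1340].map V6.d4
def u_wt101 : List V6 := [80, 1223, 1785, 1527, 369, 1632].map V6.d4
def p_wt101 : List Op := [.g 11, .c 12, .g 14, .c 15, .g 15, .c 16, .g 18, .c 19, .g 9, .g 10, .c 11, .g 13,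
  .h 14, .g 9, .g 10, .g 11, .g 12, .g 13, .c 14, .g 5, .h 6, .h 10, .g 7, .g 8, .g 9, .c 10, .h 2, .h 4, .g 5,
  .l 3 .o, .g 2, .h 1, .g 2, .g 3, .g 4, .g 5, .g 6, .c 7, .h 2]
def s_wt101 : List V6 := [1781, 1759, 2014, 1208].map V6.d4
def q_wt101 : List Op := [.g 0, .g 1, .g 2, .c 3, .g 1, .g 2, .g 3, .c 4, .g 0, .c 1, .c 0]
def r_wt101 : List V6 := (v_wt101.map (actW u_wt101)) ++ v_wt101.reverse ++ [E0] ++ wom.reverse
theorem iv_wt101 : iso v_wt101 = true := by decide +kernel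
theorem iu_wt101 : iso u_wt101 = true := by decide +kernel
theorem m_wt101 : ∀ x ∈ bas, actW (u_wt101 ++ v_wt101) x = V6.smul .w (actW (E0 :: (v_wt101 ++ u_wt101)) x) := by decide +kernel
theorem c_wt101 : chkQ r_wt101 p_wt101 3 s_wt101 .u q_wt101 = true := by decide +kernel

def v_wt110 : List V6 := [1079, 1781, 2037, 1434, 1260].map V6.d4
def u_wt110 : List V6 := [1345, 1348, 1374, 1370, 420, 1632].map V6.d4
def p_wt110 : List Op := [.g 11, .c 12, .g 14, .c 15, .g 15, .c 16, .g 18, .c 19, .h 6, .g 7, .g 8, .g 9, .c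
  10, .g 13, .h 14, .g 9, .g 10, .g 11, .g 12, .g 13, .c 14, .g 8, .h 7, .l 5 .o]
def s_wt110 : List V6 := [1352, 1947, 1769, 1157].map V6.d4
def q_wt110 : List Op := [.g 0, .g 1, .g 2, .g 3, .g 4, .g 5, .c 6, .g 2, .g 3, .g 4, .c 5, .h 1, .h 2, .g 0,
  .g 1, .c 2, .h 1, .g 2, .g 3, .c 4, .g 0, .c 1, .c 0]
def r_wt110 : List V6 := (v_wt110.map (actW u_wt110)) ++ v_wt110.reverse ++ [E0] ++ wom.reverse
theorem iv_wt110 : iso v_wt110 = true := by decide +kernel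
theorem iu_wt110 : iso u_wt110 = true := by decide +kernel
theorem m_wt110 : ∀ x ∈ bas, actW (u_wt110 ++ v_wt110) x = V6.smul .w (actW (E0 :: (v_wt110 ++ u_wt110)) x) := by decide +kernel
theorem c_wt110 : chkQ r_wt110 p_wt110 6 s_wt110 .o q_wt110 = true := by decide +kernel


end Cfsg.Agent.H486.US
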