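import Cfsg.Agent.H486.US.Data
import Cfsg.Agent.H6.QO.Frame

/-!
# The 2-covers of `SU₆(2)`: fusion of the lifts of `x₀`, the lifts of `ω` times a transvection (helper486)
-/

set_option autoImplicit false
set_option linter.unusedSectionVars false

namespace Cfsg.Agent.H486.US

open Subgroup Cfsg Cfsg.Agent.LieClassical.HermBasic Cfsg.Agent.ClassicalGeometry.UnitTransv
  Cfsg.Agent.SporadicStructure.UnitTwo Cfsg.Agent.R01.PSUSix Cfsg.Agent.KFacts.OddLift.USixL Cfsg.Agent.H777.Ore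
open Cfsg.Agent.ClassicalGeometry.UnitAutBasic (tau pr pr_surjective)

universe u v w

variable {F : Type v} [Field F] [Fintype F] {hF : Fintype.card F = 2 ^ 2} {ω : F} (hω : ω ^ 2 + ω + 1 = 0)

section Base

variable {K : Type u} [Group K] {f : K →* PSU 6 F 2} {t : (Fin 6 → F) → K} (h : TL hF f t)

include hω h

/-- the kernel has at most four elements -/
theorem ker_cases [Finite K] (hK : commutator K = ⊤) (hf : Function.Surjective f) (hZ : f.ker ≤ center K)
    (h2 : IsPGroup 2 f.ker) {z : K} (hz : f z = 1) : z = 1 ∨ z = dd t (ee 0) (ee 1) (ee 2) ∨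
      z = dd t (ee 0) (ee 1) (ω • ee 2) ∨ z = dd t (ee 0) (ee 1) (ω ^ 2 • ee 2) := by
  have p1 : Tri (ee 0 : Fin 6 → F) (ee 1) (ee 2) := by
    have := tri_std hω h one_ne_zero; rwa [one_smul] at this
  have pw := tri_std hω h (omega_ne_zero hω)
  have pu := tri_std hω h (pow_ne_zero 2 (omega_ne_zero hω))
  set a := dd t (ee 0) (ee 1) (ee 2) with ha
  set b := dd t (ee 0) (ee 1) (ω • ee 2) with hb
  set c := dd t (ee 0) (ee 1) (ω ^ 2 • ee 2) with hc
  have sa : a * a = 1 := dd_sq h p1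
  have sb : b * b = 1 := dd_sq h pw
  have sc : c * c = 1 := dd_sq h pu
  have ca : ∀ k : K, k * a = a * k := mem_center_iff.1 (hZ (dd_ker h p1))
  have cb : ∀ k : K, k * b = b * k := mem_center_iff.1 (hZ (dd_ker h pw))
  have abc : a * b * c = 1 := dd_three h p1 hω
  have hab : a * b = c := by
    calc a * b = a * b * (c * c) := by rw [sc, mul_one]
      _ = a * b * c * c := by group
      _ = c := by rw [abc, one_mul]
  have hba : b * a = c := by rw [ca, hab]
  have hac : a * c = b := by rw [← hab, ← mul_assoc, sa, one_mul]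
  have hca : c * a = b := by rw [ca, hac]
  have hbc : b * c = a := by rw [← hba, ← mul_assoc, sb, one_mul]
  have hcb : c * b = a := by rw [cb, hbc]
  have hz' : z ∈ f.ker := hz
  rw [ker_eq hK hf hZ h2 h] at hz'
  have hinv : ∀ x : K, x * x = 1 → x⁻¹ = x := fun x hx => inv_eq_of_mul_eq_one_left hx
  have hgen : ∀ x, (∃ u v w, Tri u v w ∧ x = dd t u v w) → x = a ∨ x = b ∨ x = c := by
    rintro x ⟨u, v, w, p, rfl⟩
    exact dd_cases h hf hZ hω p
  clear_value a b c
  refine closure_induction (p := fun z _ => z = 1 ∨ z = a ∨ z = b ∨ z = c) ?_ (Or.inl rfl) ?_ ?_ hz'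
  · intro x hx
    exact Or.inr (hgen x hx)
  · rintro x y - - hx hy
    rcases hx with e | e | e | e <;> rcases hy with e' | e' | e' | e' <;>
      simp only [e, e', one_mul, mul_one, sa, sb, sc, hab, hba, hac, hca, hbc, hcb, true_or, or_true]
  · rintro x - hx
    rcases hx with rfl | rfl | rfl | rfl
    · exact Or.inl inv_one
    · exact Or.inr (Or.inl (hinv _ sa))
    · exact Or.inr (Or.inr (Or.inl (hinv _ sb)))
    · exact Or.inr (Or.inr (Or.inr (hinv _ sc)))

end Base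

/-- the situation: `L → SU₆(2)` with a central 2-kernel, `q : L → K` its 2-part over `PSU₆(2)` -/
structure Two (hF : Fintype.card F = 2 ^ 2) (ω : F) {L : Type w} {K : Type u} [Group L] [Group K]
    (φ : L →* SU 6 F 2) (q : L →* K) (f : K →* PSU 6 F 2) (t : (Fin 6 → F) → K) : Prop where
  tl : TL hF f t
  hφ : Function.Surjective φ
  hq : Function.Surjective q
  comp : ∀ x, f (q x) = pr 6 F 2 (φ x)
  hf : Function.Surjective f
  hZ : f.ker ≤ center K
  inj : ∀ x, q x = 1 → φ x = 1 → x = 1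
  cases : ∀ z, f z = 1 → z = 1 ∨ z = dd t (ee 0) (ee 1) (ee 2) ∨
      z = dd t (ee 0) (ee 1) (ω • ee 2) ∨ z = dd t (ee 0) (ee 1) (ω ^ 2 • ee 2)
  wom : val t ω wom = 1

namespace Two

variable {L : Type w} {K : Type u} [Group L] [Group K] {φ : L →* SU 6 F 2} {q : L →* K} {f : K →* PSU 6 F 2}
  {t : (Fin 6 → F) → K} (H : Two hF ω φ q f t)

include hω H

theorem conj_rel {u v : List V6} (hu : iso u = true) (hv : iso v = true) {k y : L} (hk : φ k = gW hF ω u)
    (hy : φ y = gW hF ω v) : q (k * y * k⁻¹ * y⁻¹) = val t ω (v.map (actW u)) * val t ω v.reverse := by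
  have h1 : f (q k) = pr 6 F 2 (gW hF ω u) := by rw [H.comp, hk]
  obtain ⟨ζ, hζ⟩ : ∃ ζ, q y = val t ω v * ζ := ⟨(val t ω v)⁻¹ * q y, by group⟩
  have h2 : f ζ = 1 := by
    have h3 : f (q y) = f (val t ω v) * f ζ := by rw [hζ, map_mul]
    rw [H.comp, hy, map_val hω H.tl hv] at h3
    exact (mul_eq_left.1 h3.symm)
  have h4 := mem_center_iff.1 (H.hZ h2)
  rw [val_map hω H.tl hu h1 hv, val_reverse hω H.tl hv, map_mul, map_mul, map_mul, map_inv, map_inv, hζ]
  calc q k * (val t ω v * ζ) * (q k)⁻¹ * (val t ω v * ζ)⁻¹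
      = q k * val t ω v * (ζ * (q k)⁻¹) * ζ⁻¹ * (val t ω v)⁻¹ := by group
    _ = q k * val t ω v * ((q k)⁻¹ * ζ) * ζ⁻¹ * (val t ω v)⁻¹ := by rw [h4]
    _ = q k * val t ω v * (q k)⁻¹ * (val t ω v)⁻¹ := by group

theorem eq_of {x y : L} (h1 : q x = q y) (h2 : φ x = φ y) : x = y := by
  have := H.inj (x * y⁻¹) (by rw [map_mul, map_inv, h1, mul_inv_cancel]) (by rw [map_mul, map_inv, h2, mul_inv_cancel])
  exact mul_inv_eq_one.1 this

theorem central {c : L} (hc : φ c = 1) (y : L) : y * c = c * y := by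
  apply H.eq_of hω
  · rw [map_mul, map_mul]
    exact mem_center_iff.1 (H.hZ (show q c ∈ f.ker by rw [MonoidHom.mem_ker, H.comp, hc, map_one])) _
  · rw [map_mul, map_mul, hc, one_mul, mul_one]

/-- one conjugation of the lifts of a word -/
theorem exists_conj {u v : List V6} (hu : iso u = true) (hv : iso v = true)
    (hm : ∀ x ∈ bas, actW (u ++ v) x = actW (v ++ u) x) {z : K}
    (hr : val t ω (v.map (actW u) ++ v.reverse) = z) {x : L} (hx : φ x = gW hF ω v) :
    ∃ k c : L, k * x * k⁻¹ = x * c ∧ φ c = 1 ∧ q c = z := by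
  obtain ⟨k, hk⟩ := H.hφ (gW hF ω u)
  have h1 : φ (k * x * k⁻¹ * x⁻¹) = 1 := by
    have e := gW_eq (hF := hF) hω (w := u ++ v) (w' := v ++ u) (iso_append.2 ⟨hu, hv⟩) (iso_append.2 ⟨hv, hu⟩) hm
    rw [gW_append, gW_append] at e
    rw [map_mul, map_mul, map_mul, map_inv, map_inv, hk, hx, e]
    group
  refine ⟨k, k * x * k⁻¹ * x⁻¹, ?_, h1, ?_⟩
  · rw [H.central hω h1]; group
  · rw [H.conj_rel hω hu hv hk hx, ← val_append, hr]

/-- **The lifts of `x₀` are fused.** -/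
theorem fus {x : L} (hx : φ x = gW hF ω v_ns1) {ζ : L} (hζ : φ ζ = 1) : IsConj x (x * ζ) := by
  obtain ⟨k₁, c₁, a1, b1, d1⟩ := H.exists_conj hω iu_ns1 iv_ns1 m_ns1
    (rel_of_chkQ hω H.tl H.hf H.hZ c_ns1) hx
  obtain ⟨k₂, c₂, a2, b2, d2⟩ := H.exists_conj hω iu_ns2 iv_ns2 m_ns2
    (rel_of_chkQ hω H.tl H.hf H.hZ c_ns2) (show φ x = gW hF ω v_ns2 from hx)
  have e1 : (Q.ev ω .o • ee 2 : Fin 6 → F) = ee 2 := by rw [show Q.ev ω .o = 1 from rfl, one_smul]
  rw [e1] at d1
  change q c₂ = dd t (ee 0) (ee 1) (ω • ee 2) at d2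
  have p1 : Tri (ee 0 : Fin 6 → F) (ee 1) (ee 2) := by
    have := tri_std hω H.tl one_ne_zero; rwa [one_smul] at this
  have pu := tri_std hω H.tl (pow_ne_zero 2 (omega_ne_zero hω))
  have abc := dd_three H.tl p1 hω
  have sc := dd_sq H.tl pu
  rcases H.cases (q ζ) (by rw [H.comp, hζ, map_one]) with e | e | e | e
  · rw [H.inj ζ e hζ, mul_one]
  · have : ζ = c₁ := H.eq_of hω (e.trans d1.symm) (hζ.trans b1.symm)
    rw [this]
    exact isConj_iff.2 ⟨k₁, a1⟩
  · have : ζ = c₂ := H.eq_of hω (e.trans d2.symm) (hζ.trans b2.symm)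
    rw [this]
    exact isConj_iff.2 ⟨k₂, a2⟩
  · have : ζ = c₁ * c₂ := by
      refine H.eq_of hω ?_ ?_
      · rw [e, map_mul, d1, d2]
        calc dd t (ee 0) (ee 1) (ω ^ 2 • ee 2) = 1 * dd t (ee 0) (ee 1) (ω ^ 2 • ee 2) := by rw [one_mul]
          _ = dd t (ee 0) (ee 1) (ee 2) * dd t (ee 0) (ee 1) (ω • ee 2) *
              (dd t (ee 0) (ee 1) (ω ^ 2 • ee 2) * dd t (ee 0) (ee 1) (ω ^ 2 • ee 2)) := by
            rw [← abc]; group
          _ = _ := by rw [sc, mul_one]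
      · rw [hζ, map_mul, b1, b2, one_mul]
    rw [this]
    refine isConj_iff.2 ⟨k₁ * k₂, ?_⟩
    calc k₁ * k₂ * x * (k₁ * k₂)⁻¹ = k₁ * (k₂ * x * k₂⁻¹) * k₁⁻¹ := by group
      _ = (k₁ * x * k₁⁻¹) * (k₁ * c₂ * k₁⁻¹) := by rw [a2]; group
      _ = x * c₁ * (c₂ * k₁ * k₁⁻¹) := by rw [a1, H.central hω b2]
      _ = x * (c₁ * c₂) := by group

end Two

/-! ### `ω` times a transvection -/

include hω in
/-- an additive and homogeneous map is determined by its values on the basis -/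
theorem act_of_basis {g : SU 6 F 2} {A : (Fin 6 → F) → (Fin 6 → F)} (ha : ∀ x y, A (x + y) = A x + A y)
    (hs : ∀ (c : F) x, A (c • x) = c • A x) (h : ∀ x ∈ bas, act g (x.toF ω) = A (x.toF ω)) (X : Fin 6 → F) :
    act g X = A X := by
  obtain ⟨b0, b1, b2, b3, b4, b5⟩ := toF_basis (ω := ω)
  have hx : X = X 0 • Pi.single 0 1 + X 1 • Pi.single 1 1 + X 2 • Pi.single 2 1 + X 3 • Pi.single 3 1 +
      X 4 • Pi.single 4 1 + X 5 • Pi.single 5 1 := by
    funext i
    fin_cases i <;> simp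
  have k0 : act g (Pi.single 0 1) = A (Pi.single 0 1) := b0 ▸ h _ (by simp [bas])
  have k1 : act g (Pi.single 1 1) = A (Pi.single 1 1) := b1 ▸ h _ (by simp [bas])
  have k2 : act g (Pi.single 2 1) = A (Pi.single 2 1) := b2 ▸ h _ (by simp [bas])
  have k3 : act g (Pi.single 3 1) = A (Pi.single 3 1) := b3 ▸ h _ (by simp [bas])
  have k4 : act g (Pi.single 4 1) = A (Pi.single 4 1) := b4 ▸ h _ (by simp [bas])
  have k5 : act g (Pi.single 5 1) = A (Pi.single 5 1) := b5 ▸ h _ (by simp [bas])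
  rw [hx]
  simp only [act_add, act_smul, ha, hs, k0, k1, k2, k3, k4, k5]

theorem wom_ok : bas.all (fun x => decide (actW wom x = V6.smul .w x)) = true := by decide +kernel

include hω in
theorem act_wom (X : Fin 6 → F) : act (gW hF ω wom) X = ω • X := by
  refine act_of_basis hω (A := fun x => ω • x) (fun x y => smul_add _ _ _) (fun c x => smul_comm _ _ _) ?_ X
  intro x hx
  rw [act_gW hω wom iso_wom, of_decide_eq_true (List.all_eq_true.1 wom_ok x hx), toF_smul hF hω]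
  rfl

include hω in
/-- `[u, v] = ω T(E0)` in `SU₆(2)` -/
theorem rel_su {u v : List V6} (hu : iso u = true) (hv : iso v = true)
    (hm : ∀ x ∈ bas, actW (u ++ v) x = V6.smul .w (actW (E0 :: (v ++ u)) x)) :
    gW hF ω u * gW hF ω v = gW hF ω wom * gW hF ω [E0] * (gW hF ω v * gW hF ω u) := by
  have hE : iso [E0] = true := by decide
  have hvu : iso (E0 :: (v ++ u)) = true := iso_cons.2 ⟨by decide, iso_append.2 ⟨hv, hu⟩⟩
  have e : gW hF ω u * gW hF ω v = gW hF ω wom * gW hF ω (E0 :: (v ++ u)) := by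
    rw [← gW_append]
    apply ext_act
    intro X
    rw [act_mul, act_wom hω]
    refine act_of_basis hω (A := fun x => ω • act (gW hF ω (E0 :: (v ++ u))) x) (fun x y => by
      simp only [act_add, smul_add]) (fun c x => by simp only [act_smul]; rw [smul_comm]) ?_ X
    intro x hx
    show _ = ω • act (gW hF ω (E0 :: (v ++ u))) (x.toF ω)
    rw [act_gW hω _ (iso_append.2 ⟨hu, hv⟩), hm x hx, toF_smul hF hω, act_gW hω _ hvu]
    rfl
  have e2 : gW hF ω (E0 :: (v ++ u)) = gW hF ω [E0] * (gW hF ω v * gW hF ω u) := by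
    rw [gW_cons, gW_append, gW_cons, gW_nil, mul_one]
  rw [e, e2, mul_assoc]

namespace Two

variable {L : Type w} {K : Type u} [Group L] [Group K] {φ : L →* SU 6 F 2} {q : L →* K} {f : K →* PSU 6 F 2}
  {t : (Fin 6 → F) → K} (H : Two hF ω φ q f t)

include hω H

/-- one lift of `ω T(E0)` -/
theorem wt_one {u v : List V6} (hu : iso u = true) (hv : iso v = true)
    (hm : ∀ x ∈ bas, actW (u ++ v) x = V6.smul .w (actW (E0 :: (v ++ u)) x)) {z : K} (hz : f z = 1)
    (hr : val t ω (v.map (actW u) ++ v.reverse ++ [E0] ++ H486.US.wom.reverse) = z) {y : L}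
    (hy : φ y = gW hF ω H486.US.wom * gW hF ω [E0]) (hq : q y = t (E0.toF ω) * z) : IsC y := by
  obtain ⟨k, hk⟩ := H.hφ (gW hF ω u)
  obtain ⟨x, hx⟩ := H.hφ (gW hF ω v)
  refine ⟨k, x, H.eq_of hω ?_ ?_⟩
  · rw [H.conj_rel hω hu hv hk hx, ← val_append, hq]
    have e1 := t_sq hω H.tl (a := E0) (by decide)
    have e2 : val t ω H486.US.wom.reverse = 1 := by rw [val_reverse hω H.tl iso_wom, H.wom, inv_one]
    rw [val_append, e2, mul_one, val_append, val_cons, val_nil, mul_one] at hr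
    have e3 := mem_center_iff.1 (H.hZ (show z ∈ f.ker from hz)) (t (E0.toF ω))
    rw [e3, ← hr, mul_assoc, e1, mul_one]
  · have e := rel_su (hF := hF) hω hu hv hm
    rw [map_mul, map_mul, map_mul, map_inv, map_inv, hk, hx, hy, e]
    group

/-- **All lifts of `ω T(E0)` are commutators.** -/
theorem wt {y : L} (hy : φ y = gW hF ω H486.US.wom * gW hF ω [E0]) : IsC y := by
  have hE : iso [E0] = true := by decide
  have e0 : pr 6 F 2 (gW hF ω H486.US.wom) = 1 := by
    rw [← map_val hω H.tl iso_wom, H.wom, map_one]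
  have e1 : f (q y) = f (t (E0.toF ω)) := by
    rw [H.comp, hy, map_mul, e0, one_mul, ← map_val hω H.tl hE, val_cons, val_nil, mul_one]
  obtain ⟨z, hz⟩ : ∃ z, q y = t (E0.toF ω) * z := ⟨(t (E0.toF ω))⁻¹ * q y, by group⟩
  have hfz : f z = 1 := by
    rw [hz, map_mul] at e1
    exact mul_eq_left.1 e1
  have e2 : (Q.ev ω .o • ee 2 : Fin 6 → F) = ee 2 := by rw [show Q.ev ω .o = 1 from rfl, one_smul]
  rcases H.cases z hfz with e | e | e | e
  · exact H.wt_one hω iu_wt000 iv_wt000 m_wt000 hfz (by rw [e]; exact rel_of_chk hω H.tl c_wt000) hy hz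
  · refine H.wt_one hω iu_wt110 iv_wt110 m_wt110 hfz ?_ hy hz
    rw [e, ← e2]; exact rel_of_chkQ hω H.tl H.hf H.hZ c_wt110
  · refine H.wt_one hω iu_wt011 iv_wt011 m_wt011 hfz ?_ hy hz
    rw [e]; exact rel_of_chkQ hω H.tl H.hf H.hZ c_wt011
  · refine H.wt_one hω iu_wt101 iv_wt101 m_wt101 hfz ?_ hy hz
    rw [e]; exact rel_of_chkQ hω H.tl H.hf H.hZ c_wt101

end Two

end Cfsg.Agent.H486.US
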