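import Cfsg.Agent.H486.US.Data
import Cfsg.Agent.H767.U6.Mats

/-!
# `SU₆(2)`: commutator pairs with first member `x₀ = gW v_ns1` for the class representatives (helper486)
-/

set_option autoImplicit false
set_option maxRecDepth 100000

namespace Cfsg.Agent.H486.US

open Cfsg.Agent.H767.U6 (XP cd)

/-- the column `j` of `l X` -/
def colV (P l j : ℕ) : V6 := V6.smul (Q.d l) ⟨Q.d (cd P 0 j), Q.d (cd P 1 j), Q.d (cd P 2 j), Q.d (cd P 3 j),
  Q.d (cd P 4 j), Q.d (cd P 5 j)⟩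

/-- the columns of `l X_i` -/
def colsV (i l : ℕ) : List V6 := (List.range 6).map (colV (XP.getD i 0) l)

/-- the word `a [x₀, u] a⁻¹` -/
def pairW (A U : List V6) : List V6 := A ++ v_ns1 ++ U ++ v_ns1.reverse ++ U.reverse ++ A.reverse

/-- certificate: `l X_i = a [x₀, u] a⁻¹` -/
def chkP (r : ℕ × ℕ × List ℕ × List ℕ) : Bool :=
  iso (r.2.2.1.map V6.d4) && (iso (r.2.2.2.map V6.d4) &&
    decide (bas.map (actW (pairW (r.2.2.1.map V6.d4) (r.2.2.2.map V6.d4))) = colsV r.1 r.2.1))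

def pd0 : List (ℕ × ℕ × List ℕ × List ℕ) := [
  (1, 1, [436, 1078, 1079, 1510, 1922], [1534, 105, 417, 1977, 1749, 1196]),
  (2, 1, [1653, 7, 1843, 268], [1435, 1176, 1308, 121, 1067, 408]),
  (2, 2, [1470, 112, 1390, 1236, 1192], [1447, 1216, 1230, 1895, 1287]),
  (2, 3, [1435, 1556, 1405, 28, 1509], [1071, 1703, 1027, 1196, 1810]),
  (3, 1, [1917, 1902, 384, 1187], [1645, 1116, 1919, 1963, 1703, 1785]),
  (3, 2, [1812, 2006, 1077, 1252, 85], [1625, 288, 1376, 325, 1062, 1453]),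
  (3, 3, [1654, 326, 320, 1449, 106], [1381, 1329, 483, 1108, 268]),
  (4, 1, [1077, 1517, 125, 1622, 28, 1298], [329, 418, 1045, 1313]),
  (4, 2, [1461, 1601, 1534, 1494, 1488], [1676, 1551, 311, 1176, 1095]),
  (4, 3, [1152, 465, 1868, 433], [1864, 1759, 1782, 320, 1550]),
  (5, 1, [1081, 1196, 2010, 1723, 1622, 1399], [1050, 18, 1331, 1454, 1185]),
  (5, 2, [1233, 303, 107, 1957, 1222, 1286], [298, 1509, 1661, 1918])]
theorem pd0_ok : pd0.all chkP = true := by decide +kernel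

def pd1 : List (ℕ × ℕ × List ℕ × List ℕ) := [
  (5, 3, [1466, 1932, 1783, 1852], [334, 1480, 1848, 1962, 463]),
  (6, 1, [320, 1398, 1256, 401, 1369, 1911], [1631, 1047, 1751]),
  (6, 2, [1077, 1297, 1816, 1085], [1534, 91, 310, 1055, 1340]),
  (6, 3, [1124, 1087, 257, 1373, 1529], [1494, 1382, 1786, 1330, 1159]),
  (7, 1, [1176, 344, 1196, 391, 1790], [1201, 1717, 1705, 1411, 1767]),
  (7, 2, [370, 1420, 1332, 1655, 1801], [1801, 1471, 1256, 1216, 102]),
  (7, 3, [1659, 2014, 1140, 2032, 102, 1694], [272, 1881, 1470]),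
  (8, 1, [1450, 1809, 1585, 1641], [1383, 1765, 1266, 1240, 301]),
  (8, 2, [1816, 390, 260, 403, 309], [1467, 1250, 398, 1783, 1553]),
  (8, 3, [1903, 488, 403, 1663, 127], [1801, 1965, 417, 101, 1285]),
  (9, 1, [1433, 1032, 302, 1169, 294], [1051, 1438, 497, 370, 1268]),
  (9, 2, [466, 1515, 404, 1286, 1231], [1094, 492, 1287, 285, 1347, 337])]
theorem pd1_ok : pd1.all chkP = true := by decide +kernel

def pd2 : List (ℕ × ℕ × List ℕ × List ℕ) := [
  (9, 3, [1672, 1332, 1571, 1411, 1403], [1520, 1514, 1291, 1902, 1826]),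
  (10, 1, [1411, 1405, 1942, 444, 2005, 1501], [1841, 1067, 2037, 1648, 1707]),
  (10, 2, [1204, 1180, 457, 1163, 1403], [1705, 1078, 1827, 286, 1914, 389]),
  (10, 3, [1386, 1329, 310, 499, 1374, 1932], [1294, 1513, 1773, 1299]),
  (11, 1, [380, 1450, 353, 1978, 2013], [86, 1036, 1632, 1314]),
  (11, 2, [1825, 1122, 1792, 1529, 1885], [1586, 1295, 1535, 1945, 1308]),
  (11, 3, [1903, 1922, 1072, 1985, 1251], [1792, 123, 1170, 2038, 468]),
  (12, 1, [1186, 1696, 118, 1102, 1965], [1632, 1797, 1320, 419, 1313]),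
  (12, 2, [1550, 1883, 1571, 1435, 86], [337, 1165, 1629, 1718, 1757]),
  (12, 3, [1451, 1705, 1140, 353, 1526, 1919], [1751, 1642, 1686, 1801, 1201]),
  (13, 1, [1722, 1067, 1586, 1026], [1140, 1629, 1864, 1555, 1580, 1272]),
  (13, 2, [1858, 1672, 1848, 1235, 1061, 1530], [1975, 1518, 1530, 1560])]
theorem pd2_ok : pd2.all chkP = true := by decide +kernel

def pd3 : List (ℕ × ℕ × List ℕ × List ℕ) := [
  (13, 3, [1340, 327, 1455, 1494], [1433, 1051, 278, 504, 1883, 344]),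
  (14, 1, [264, 465, 1439, 1721, 1202], [302, 339, 326, 1451, 1848]),
  (14, 2, [1642, 294, 1527, 1276, 1858], [1828, 399, 1336, 1627, 288]),
  (14, 3, [1982, 1050, 1966, 1071, 1546], [1234, 1456, 264, 1913]),
  (15, 1, [1623, 2016, 1455, 1859, 1225], [1622, 1519, 1913, 103, 272]),
  (15, 2, [1053, 1431, 1872, 2014, 1643], [1585, 1047, 1901, 1324, 397]),
  (15, 3, [1053, 1695, 1978, 1923, 1061, 1095], [1067, 458, 1958, 1740, 1542]),
  (16, 1, [1533, 1079, 1689, 327, 1510], [331, 1088, 1107, 2043, 1642]),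
  (16, 2, [408, 399, 1626, 1560, 1773, 335], [334, 2025, 1629, 1982]),
  (16, 3, [1877, 339, 1240, 1186, 1465, 1723], [95, 1462, 1083]),
  (17, 1, [1983, 1596, 264, 2005, 288], [1124, 1280, 109, 454, 1495]),
  (17, 2, [1827, 1376, 1424, 497, 1975, 2042], [333, 1894, 1569, 1046])]
theorem pd3_ok : pd3.all chkP = true := by decide +kernel

def pd4 : List (ℕ × ℕ × List ℕ × List ℕ) := [
  (17, 3, [89, 1107, 1235, 1690, 1138], [1287, 1180, 257, 1501]),
  (18, 1, [101, 1106, 1936, 1040], [1293, 2037, 2045, 1530, 1102]),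
  (18, 2, [1383, 1456, 1473, 1392], [1515, 1924, 1066, 2042, 2047]),
  (18, 3, [418, 1371, 2026, 1313, 315], [1067, 1226, 483, 1525, 1648]),
  (19, 1, [1749, 1347, 1467, 1782, 463], [95, 309, 1484, 298, 1300]),
  (19, 2, [2000, 1469, 1612, 1894, 1806], [1760, 1476, 1744, 86, 1383]),
  (19, 3, [459, 1744, 1974, 338, 1345, 339], [1811, 1601, 1046, 1401]),
  (20, 1, [2029, 1223, 390, 440, 259], [1857, 1776, 391, 1525, 1381]),
  (20, 2, [1947, 440, 1860, 1751, 1811], [2042, 1951, 1406, 1446, 281]),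
  (20, 3, [126, 1132, 1298, 1570, 1212], [1717, 1520, 2005, 1707, 1446]),
  (21, 1, [1438, 1128, 65, 356, 1172], [1864, 1903, 1881, 107, 1643, 1291]),
  (21, 2, [1696, 1047, 435, 1986, 1645, 1392], [319, 85, 1081, 461])]
theorem pd4_ok : pd4.all chkP = true := by decide +kernel

def pd5 : List (ℕ × ℕ × List ℕ × List ℕ) := [
  (21, 3, [458, 1676, 1316, 1433], [370, 2041, 1502, 2025, 1412, 1299]),
  (22, 1, [1346, 303, 1858, 1026, 1290], [1346, 1904, 1095, 1531, 417]),
  (22, 2, [1440, 1185, 1721, 94, 1749], [1169, 2041, 310, 1249, 1857]),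
  (22, 3, [1781, 1036, 1775, 1965, 1571], [278, 258, 1416, 329, 1392]),
  (23, 1, [103, 1810, 1473, 1265, 1932], [1782, 318, 1480, 1101, 420]),
  (23, 2, [1899, 80, 2037, 453, 1473], [1493, 1222, 1828, 444]),
  (23, 3, [1503, 370, 1250, 1689, 1923], [2027, 457, 278, 1826, 1945]),
  (24, 1, [481, 1187, 1947, 1958, 391], [1324, 1163, 2029, 402, 472]),
  (24, 2, [403, 1753, 1366, 1919, 1105], [353, 1365, 444, 1903, 126]),
  (24, 3, [1827, 465, 1887, 1171, 1807], [1105, 1026, 1291, 2030, 1162]),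
  (25, 1, [1667, 1501, 1647, 67, 1903, 1959], [1095, 1083, 2042, 302]),
  (25, 2, [1639, 1560, 1272, 1596, 1887], [1554, 492, 1751, 457, 1290])]
theorem pd5_ok : pd5.all chkP = true := by decide +kernel

def pd6 : List (ℕ × ℕ × List ℕ × List ℕ) := [
  (25, 3, [1895, 1868, 408, 1859, 90, 1655], [1534, 1898, 1740, 435, 428]),
  (26, 1, [389, 1872, 1186, 2010, 2038, 101], [1036, 66, 370, 1047]),
  (26, 2, [448, 1957, 1872, 264], [317, 1691, 68, 268, 1157]),
  (26, 3, [1526, 1887, 1128, 1725, 1623], [1572, 1438, 6, 1885, 508]),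
  (27, 1, [1801, 1188, 1250, 1705, 1152], [1336, 1502, 1766, 1144]),
  (27, 2, [1474, 1696, 1370, 1180, 1148], [1963, 1860, 1286, 393]),
  (27, 3, [1297, 412, 1172, 298, 1527], [93, 1603, 107, 393]),
  (28, 1, [1602, 1859, 311, 1315], [1094, 1391, 1167, 304, 1103]),
  (28, 2, [1799, 1315, 1061, 1924, 1942], [1383, 1886, 286, 1431, 20]),
  (28, 3, [1803, 459, 1569, 356, 1494], [1725, 1331, 1071, 1801]),
  (29, 1, [126, 1446, 1473, 1240, 1435, 1534], [1525, 1345, 1401, 394, 1025]),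
  (29, 2, [260, 1638, 1787, 1571, 1536], [2025, 90, 459, 329, 1572])]
theorem pd6_ok : pd6.all chkP = true := by decide +kernel

def pd7 : List (ℕ × ℕ × List ℕ × List ℕ) := [
  (29, 3, [1585, 1265, 18, 488, 1717], [1223, 1466, 1887, 1072, 1098]),
  (30, 1, [329, 1480, 1665, 1501, 1767], [1533, 1744, 1527, 1977, 331]),
  (30, 2, [1992, 1300, 2010, 1917], [1291, 1555, 1370, 326, 497]),
  (30, 3, [2015, 1696, 1249, 2007, 1497], [1046, 1347, 285, 1757, 24]),
  (31, 1, [294, 1167, 1087, 76, 1027], [433, 106, 371, 492, 309, 1790]),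
  (31, 2, [1162, 1484, 1050, 1915, 2009], [1545, 1569, 1291, 1389, 1055]),
  (31, 3, [1572, 1774, 1961, 1340], [101, 1107, 1706, 1403, 279]),
  (32, 1, [1965, 298, 417, 1973, 1893], [314, 1740, 293, 1320, 1435]),
  (32, 2, [1391, 1630, 1977, 1293, 1878], [1887, 1765, 403, 1315, 401]),
  (32, 3, [1986, 1665, 1336, 1662, 1580], [1051, 2037, 1570, 468, 1382]),
  (33, 1, [1402, 1534, 1663, 1690, 2045, 1410], [1765, 1108, 393, 20, 1431]),
  (33, 2, [1902, 310, 1718, 1895, 1529], [1480, 1280, 1070, 1732, 1285])]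
theorem pd7_ok : pd7.all chkP = true := by decide +kernel

def pd8 : List (ℕ × ℕ × List ℕ × List ℕ) := [
  (33, 3, [1924, 1367, 1122, 1040], [1497, 1450, 1662, 1236, 1180, 1348]),
  (34, 1, [1233, 2046, 482, 466, 101], [72, 1816, 313, 340, 1965]),
  (34, 2, [283, 1054, 1286, 1188, 1982], [498, 1608, 1919, 1901]),
  (34, 3, [1608, 335, 1786, 1230, 282, 1706], [1560, 1051, 1882, 2030, 2025]),
  (35, 1, [465, 1077, 1988, 369, 1945, 1087], [1447, 1093, 126]),
  (35, 2, [402, 1790, 1513, 1250, 1420], [1868, 1986, 1295, 1471, 1256]),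
  (35, 3, [481, 1868, 1123, 1139, 1986], [1569, 1447, 1526, 1868, 1340]),
  (36, 1, [344, 1868, 1308, 103, 1390, 90], [1791, 1588, 1382, 1774, 1196]),
  (36, 2, [331, 1056, 1365, 1067, 85, 1928], [80, 1531, 301, 1687]),
  (36, 3, [80, 1727, 303, 93, 353, 1298], [2031, 1667, 1144, 295]),
  (37, 1, [364, 1786, 1654, 1981, 302], [1152, 1439, 1405, 1941, 337]),
  (37, 2, [72, 1112, 1961, 2016, 1983], [1116, 1070, 1585, 1121, 2005])]
theorem pd8_ok : pd8.all chkP = true := by decide +kernel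

def pd9 : List (ℕ × ℕ × List ℕ × List ℕ) := [
  (37, 3, [1369, 481, 457, 395, 1919, 1787], [1161, 1382, 315, 1812, 1751]),
  (38, 1, [85, 313, 1887, 1502, 408, 106], [1825, 1066, 121, 1810]),
  (38, 2, [1765, 1921, 1585, 20, 259], [1825, 1932, 1569, 1919, 1093]),
  (38, 3, [1898, 1456, 1112, 1256], [454, 364, 1027, 1267, 285, 1077]),
  (39, 1, [1534, 91, 1898, 1462, 1148], [1463, 1705, 277, 364, 1290, 2016]),
  (39, 2, [2047, 1775, 1580, 1545, 1431], [1904, 106, 434, 420, 109, 330]),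
  (39, 3, [257, 1121, 1662, 340, 1910], [420, 1252, 1843, 288, 1648])]
theorem pd9_ok : pd9.all chkP = true := by decide +kernel

/-- all pairs -/
def pdAll : List (ℕ × ℕ × List ℕ × List ℕ) := pd0 ++ pd1 ++ pd2 ++ pd3 ++ pd4 ++ pd5 ++ pd6 ++ pd7 ++ pd8 ++ pd9

theorem pdAll_ok : ∀ r ∈ pdAll, chkP r = true := by
  intro r hr
  simp only [pdAll, List.mem_append] at hr
  have key : ∀ {l : List (ℕ × ℕ × List ℕ × List ℕ)}, l.all chkP = true → r ∈ l → chkP r = true := fun h1 h2 =>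
    List.all_eq_true.1 h1 r h2
  rcases hr with (((((((((hr | hr) | hr) | hr) | hr) | hr) | hr) | hr) | hr) | hr) <;> first
    | exact key pd0_ok hr
    | exact key pd1_ok hr
    | exact key pd2_ok hr
    | exact key pd3_ok hr
    | exact key pd4_ok hr
    | exact key pd5_ok hr
    | exact key pd6_ok hr
    | exact key pd7_ok hr
    | exact key pd8_ok hr
    | exact key pd9_ok hr

theorem pdAll_any : ((List.range 40).all fun i => (List.range 4).all fun l => l == 0 || i == 0 || (i == 1 && l != 1) ||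
    pdAll.any fun r => r.1 == i && r.2.1 == l) = true := by decide +kernel

/-- every representative but `0`, `(1, 2)`, `(1, 3)` occurs -/
theorem pdAll_cover (i l : ℕ) (hi : i < 40) (hl : l < 4) (h1 : l ≠ 0) (h2 : i ≠ 0) (h3 : i = 1 → l = 1) :
    ∃ r ∈ pdAll, r.1 = i ∧ r.2.1 = l := by
  have k1 := List.all_eq_true.1 pdAll_any i (List.mem_range.2 hi)
  have k2 := List.all_eq_true.1 k1 l (List.mem_range.2 hl)
  simp only [Bool.or_eq_true, beq_iff_eq, Bool.and_eq_true, bne_iff_ne, ne_eq, List.any_eq_true] at k2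
  rcases k2 with ((h | h) | h) | h
  · exact absurd h h1
  · exact absurd h h2
  · exact absurd (h3 h.1) h.2
  · obtain ⟨r, hr, h4⟩ := h
    exact ⟨r, hr, h4⟩

/-- `X_1` is a conjugate of the transvection `T E0` -/
def a1 : List V6 := [1077, 1376, 1469, 107, 1116].map V6.d4
theorem a1_iso : iso a1 = true := by decide +kernel
theorem a1_ok : bas.map (actW (a1 ++ [E0] ++ a1.reverse)) = colsV 1 1 := by decide +kernel

end Cfsg.Agent.H486.US
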