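import Cfsg.Agent.H486.US.Path

/-!
# Word calculus for the transvection lifts of `PSU₆(2)`: relations (helper486)

* `actW`, `gW` : words as elements of `SU₆(2)`;
* `chk`, `chkQ` : certificates; `rel_of_chk : val t ω R = 1`, `rel_of_chkQ : val t ω R = dd t e₀ e₁ (c e₂)`.
-/

set_option autoImplicit false
set_option linter.unusedSectionVars false

namespace Cfsg.Agent.H486.US

open Subgroup Cfsg Cfsg.Agent.LieClassical.HermBasic Cfsg.Agent.ClassicalGeometry.UnitTransv
  Cfsg.Agent.SporadicStructure.UnitTwo Cfsg.Agent.R01.PSUSix Cfsg.Agent.KFacts.OddLift.USixL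
open Cfsg.Agent.ClassicalGeometry.UnitAutBasic (tau pr pr_surjective)

universe u v

/-- the action of a word on the vectors -/
def actW (w : List V6) (x : V6) : V6 := w.foldr (fun b a => V6.T b a) x

def E0 : V6 := ⟨.o, .o, .z, .z, .z, .z⟩
def E1 : V6 := ⟨.z, .z, .o, .o, .z, .z⟩
def E2 : V6 := ⟨.z, .z, .z, .z, .o, .o⟩

/-- the quadrangle move -/
def fQ (X Y Z : V6) : List V6 → Option (List V6)
  | a :: b :: c :: d :: r =>
    if V6.prop a X && V6.prop b Y && V6.prop c Z && V6.prop d ((X.add Y).add Z) then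
      some ((((V6.smul .w X).add (V6.smul .u Y)).add Z) :: (((V6.smul .u X).add (V6.smul .w Y)).add Z) :: r)
    else none
  | _ => none

/-- certificate without quadrangle move -/
def chk (R : List V6) (l : List Op) : Bool :=
  iso R && match run l R with
    | some [] => true
    | _ => false

/-- certificate with one quadrangle move -/
def chkQ (R : List V6) (l₁ : List Op) (n : ℕ) (s : List V6) (c : Q) (l₂ : List Op) : Bool :=
  iso R && (iso s && (decide (c ≠ .z) && match run l₁ R with
    | none => false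
    | some R₁ => match atI (fQ (actW s E0) (actW s E1) (actW s (V6.smul c E2))) n R₁ with
      | none => false
      | some R₂ => match run l₂ R₂ with
        | some [] => true
        | _ => false))

section Sound

variable {F : Type v} [Field F] [Fintype F] {ω : F}

/-- a word as an element of `SU₆(2)` -/
noncomputable def gW (hF : Fintype.card F = 2 ^ 2) (ω : F) (w : List V6) : SU 6 F 2 :=
  (w.map fun x => Cfsg.Agent.ClassicalGeometry.UnitAutBasic.T hF (x.toF ω)).prod

theorem gW_nil (hF : Fintype.card F = 2 ^ 2) : gW hF ω [] = 1 := rfl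
theorem gW_cons (hF : Fintype.card F = 2 ^ 2) (a : V6) (w : List V6) :
    gW hF ω (a :: w) = Cfsg.Agent.ClassicalGeometry.UnitAutBasic.T hF (a.toF ω) * gW hF ω w := by simp [gW]
theorem gW_append (hF : Fintype.card F = 2 ^ 2) (w w' : List V6) :
    gW hF ω (w ++ w') = gW hF ω w * gW hF ω w' := by simp [gW]

variable {hF : Fintype.card F = 2 ^ 2} (hω : ω ^ 2 + ω + 1 = 0)

include hω

theorem act_gW : ∀ (w : List V6), iso w = true → ∀ x : V6, act (gW hF ω w) (x.toF ω) = (actW w x).toF ω
  | [], _, x => by rw [gW_nil, act_one]; rfl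
  | a :: w, hw, x => by
    rw [iso_cons] at hw
    rw [gW_cons, act_mul, act_gW w hw.2, T_eq hF (herm_iso hω hF hw.1), ← toF_T hω hF hw.1]
    rfl

theorem iso_actW (hF : Fintype.card F = 2 ^ 2) (w : List V6) (hw : iso w = true) {x : V6} (hx : x.h x = .z) :
    (actW w x).h (actW w x) = .z := by
  apply ev_inj hF hω
  rw [← herm_toF hF hω, ← act_gW (hF := hF) hω w hw, herm_act, herm_toF hF hω, hx]

theorem iso_map (hF : Fintype.card F = 2 ^ 2) {w : List V6} (hw : iso w = true) :
    ∀ {v : List V6}, iso v = true → iso (v.map (actW w)) = true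
  | [], _ => rfl
  | a :: v, hv => by
    rw [iso_cons] at hv
    rw [List.map_cons, iso_cons]
    exact ⟨iso_actW hω hF w hw hv.1, iso_map hF hw hv.2⟩

omit hω
theorem iso_reverse {w : List V6} (hw : iso w = true) : iso w.reverse = true := by
  simpa [iso] using hw
include hω

/-- two elements of `SU₆(2)` with the same action on the basis -/
theorem eq_of_basis {g g' : SU 6 F 2} (h : ∀ i : Fin 6, act g (Pi.single i 1) = act g' (Pi.single i 1)) : g = g' := by
  apply ext_act
  intro x
  have hx : x = x 0 • Pi.single 0 1 + x 1 • Pi.single 1 1 + x 2 • Pi.single 2 1 + x 3 • Pi.single 3 1 +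
      x 4 • Pi.single 4 1 + x 5 • Pi.single 5 1 := by
    funext i
    fin_cases i <;> simp
  rw [hx]
  simp only [act_add, act_smul, h]

omit hω [Fintype F] in
theorem toF_basis : (V6.d4 1).toF ω = Pi.single 0 1 ∧ (V6.d4 4).toF ω = Pi.single 1 1 ∧
    (V6.d4 16).toF ω = Pi.single 2 1 ∧ (V6.d4 64).toF ω = Pi.single 3 1 ∧ (V6.d4 256).toF ω = Pi.single 4 1 ∧
    (V6.d4 1024).toF ω = Pi.single 5 1 := by
  have e0 : V6.d4 1 = ⟨.o, .z, .z, .z, .z, .z⟩ := by decide
  have e1 : V6.d4 4 = ⟨.z, .o, .z, .z, .z, .z⟩ := by decide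
  have e2 : V6.d4 16 = ⟨.z, .z, .o, .z, .z, .z⟩ := by decide
  have e3 : V6.d4 64 = ⟨.z, .z, .z, .o, .z, .z⟩ := by decide
  have e4 : V6.d4 256 = ⟨.z, .z, .z, .z, .o, .z⟩ := by decide
  have e5 : V6.d4 1024 = ⟨.z, .z, .z, .z, .z, .o⟩ := by decide
  rw [e0, e1, e2, e3, e4, e5]
  refine ⟨?_, ?_, ?_, ?_, ?_, ?_⟩ <;> · funext i; fin_cases i <;> simp [V6.toF, Q.ev]

/-- the six basis vectors -/
def bas : List V6 := [V6.d4 1, V6.d4 4, V6.d4 16, V6.d4 64, V6.d4 256, V6.d4 1024]

theorem gW_eq {w w' : List V6} (hw : iso w = true) (hw' : iso w' = true)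
    (h : ∀ x ∈ bas, actW w x = actW w' x) : gW hF ω w = gW hF ω w' := by
  obtain ⟨b0, b1, b2, b3, b4, b5⟩ := toF_basis (ω := ω)
  refine eq_of_basis hω fun i => ?_
  have key : ∀ x ∈ bas, act (gW hF ω w) (x.toF ω) = act (gW hF ω w') (x.toF ω) := fun x hx => by
    rw [act_gW hω w hw, act_gW hω w' hw', h x hx]
  fin_cases i
  · exact b0 ▸ key _ (by simp [bas])
  · exact b1 ▸ key _ (by simp [bas])
  · exact b2 ▸ key _ (by simp [bas])
  · exact b3 ▸ key _ (by simp [bas])
  · exact b4 ▸ key _ (by simp [bas])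
  · exact b5 ▸ key _ (by simp [bas])

variable {K : Type u} [Group K] {f : K →* PSU 6 F 2} {t : (Fin 6 → F) → K} (h : TL hF f t)

include h

theorem map_val : ∀ {w : List V6}, iso w = true → f (val t ω w) = pr 6 F 2 (gW hF ω w)
  | [], _ => by rw [val_nil, gW_nil, map_one, map_one]
  | a :: w, hw => by
    rw [iso_cons] at hw
    rw [val_cons, gW_cons, map_mul, map_mul, map_val hw.2, h.map _ (herm_iso hω hF hw.1)]
    rfl

theorem val_reverse : ∀ {w : List V6}, iso w = true → val t ω w.reverse = (val t ω w)⁻¹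
  | [], _ => by rw [List.reverse_nil, val_nil, inv_one]
  | a :: w, hw => by
    rw [iso_cons] at hw
    rw [List.reverse_cons, val_append, val_reverse hw.2, val_cons, val_cons, val_nil, mul_one, mul_inv_rev,
      inv_eq_of_mul_eq_one_right (t_sq hω h hw.1)]

theorem val_map {w : List V6} (hw : iso w = true) {k : K} (hk : f k = pr 6 F 2 (gW hF ω w)) :
    ∀ {v : List V6}, iso v = true → val t ω (v.map (actW w)) = k * val t ω v * k⁻¹
  | [], _ => by rw [List.map_nil, val_nil, mul_one, mul_inv_cancel]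
  | a :: v, hv => by
    rw [iso_cons] at hv
    rw [List.map_cons, val_cons, val_cons, val_map hw hk hv.2, ← act_gW (hF := hF) hω w hw,
      ← h.conj k _ _ (herm_iso hω hF hv.1) hk]
    group

/-! ### The certificates -/

theorem rel_of_chk {R : List V6} {l : List Op} (hc : chk R l = true) : val t ω R = 1 := by
  rw [chk, Bool.and_eq_true] at hc
  obtain ⟨h1, h2⟩ := hc
  split at h2
  · rename_i h3
    exact (run_sound hω h l R [] h1 h3).1
  · exact absurd h2 (by simp)

theorem tri_std {c : F} (hc : c ≠ 0) : Tri (ee 0 : Fin 6 → F) (ee 1) (c • ee 2) where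
  uu := herm_ee hF 0 0
  vv := herm_ee hF 1 1
  ww := by rw [herm_smul_left, herm_smul_right, herm_ee hF 2 2]; simp
  uv := herm_ee hF 0 1
  uw := by rw [herm_smul_right, herm_ee hF 0 2]; simp
  vw := by rw [herm_smul_right, herm_ee hF 1 2]; simp
  ind := by
    intro a b d e
    have h0 := congrFun e 0
    have h2 := congrFun e 2
    have h4 := congrFun e 4
    simp [ee, hc] at h0 h2 h4
    exact ⟨h0, h2, h4⟩

omit h in
theorem toF_E : (E0.toF ω : Fin 6 → F) = ee 0 ∧ (E1.toF ω : Fin 6 → F) = ee 1 ∧ (E2.toF ω : Fin 6 → F) = ee 2 := by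
  refine ⟨?_, ?_, ?_⟩ <;> · funext i; fin_cases i <;> simp [V6.toF, Q.ev, E0, E1, E2, ee]

theorem fQ_sound {X Y Z : V6} (p : Tri (X.toF ω) (Y.toF ω) (Z.toF ω)) {w w' : List V6} (hw : iso w = true)
    (hs : fQ X Y Z w = some w') : val t ω w = dd t (X.toF ω) (Y.toF ω) (Z.toF ω) * val t ω w' ∧ iso w' = true := by
  match w, hw, hs with
  | a :: b :: c :: d :: r, hw, hs =>
    simp only [iso_cons] at hw
    simp only [fQ] at hs
    split_ifs at hs with hp
    rw [Option.some.injEq] at hs
    rw [← hs]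
    simp only [Bool.and_eq_true] at hp
    obtain ⟨⟨⟨h1, h2⟩, h3⟩, h4⟩ := hp
    obtain ⟨ha, hb, hc, hd, hr⟩ := hw
    have iX : X.h X = .z := ev_inj hF hω (by rw [← herm_toF hF hω, p.uu]; rfl)
    have iY : Y.h Y = .z := ev_inj hF hω (by rw [← herm_toF hF hω, p.vv]; rfl)
    have iZ : Z.h Z = .z := ev_inj hF hω (by rw [← herm_toF hF hω, p.ww]; rfl)
    have iXY : X.h Y = .z := ev_inj hF hω (by rw [← herm_toF hF hω, p.uv]; rfl)
    have iXZ : X.h Z = .z := ev_inj hF hω (by rw [← herm_toF hF hω, p.uw]; rfl)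
    have iYZ : Y.h Z = .z := ev_inj hF hω (by rw [← herm_toF hF hω, p.vw]; rfl)
    have i3 : ((X.add Y).add Z).h ((X.add Y).add Z) = .z := by
      refine h_add hω hF (h_add hω hF iX iY iXY) iZ ?_
      exact ev_inj hF hω (by rw [← herm_toF hF hω, toF_add hF hω, herm_add_left, p.uw, p.vw, add_zero]; rfl)
    have e1 := t_prop hω h iX h1
    have e2 := t_prop hω h iY h2
    have e3 := t_prop hω h iZ h3
    have e4 := t_prop hω h i3 h4
    have hyx := herm_eq_zero_swap hF p.uv
    have hzx := herm_eq_zero_swap hF p.uw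
    have hzy := herm_eq_zero_swap hF p.vw
    -- the line through X + Y and Y + Z
    have hL : Line (X.toF ω + Y.toF ω) (Y.toF ω + Z.toF ω) := by
      refine ⟨p.puv.add hF, p.pvw.add hF, ?_, ?_, ?_⟩
      · rw [herm_add_left, herm_add_right hF, herm_add_right hF, p.uv, p.uw, p.vv, p.vw]; simp
      · intro e
        have := (p.ind 1 1 0 (by rw [one_smul, one_smul, zero_smul, add_zero, e])).1
        exact one_ne_zero this
      · intro c e
        have := (p.ind c (c - 1) (-1) (by
          have e' : Y.toF ω + Z.toF ω = c • X.toF ω + c • Y.toF ω := by rw [e, smul_add]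
          rw [sub_smul, one_smul, neg_smul, one_smul]
          linear_combination (exp := 1) -e')).2.2
        exact one_ne_zero (neg_eq_zero.1 this)
    have e5 := h.line _ _ hL ω hω
    have h2' := two_eq_zero hF
    have v1 : X.toF ω + Y.toF ω + (Y.toF ω + Z.toF ω) = X.toF ω + Z.toF ω := by
      funext i; simp only [Pi.add_apply]; linear_combination (Y.toF ω i) * h2'
    have v2 : ω • (X.toF ω + Y.toF ω) + (Y.toF ω + Z.toF ω) =
        (((V6.smul .w X).add (V6.smul .u Y)).add Z).toF ω := by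
      rw [toF_add hF hω, toF_add hF hω, toF_smul hF hω, toF_smul hF hω]
      funext i; simp only [Pi.add_apply, Pi.smul_apply, smul_eq_mul, Q.ev]
      linear_combination (Y.toF ω i) * ((ω + 1) * h2' - hω)
    have v3 : ω ^ 2 • (X.toF ω + Y.toF ω) + (Y.toF ω + Z.toF ω) =
        (((V6.smul .u X).add (V6.smul .w Y)).add Z).toF ω := by
      rw [toF_add hF hω, toF_add hF hω, toF_smul hF hω, toF_smul hF hω]
      funext i; simp only [Pi.add_apply, Pi.smul_apply, smul_eq_mul, Q.ev]
      linear_combination (Y.toF ω i) * (hω - ω * h2')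
    rw [v1, v2, v3] at e5
    have iP : (((V6.smul .w X).add (V6.smul .u Y)).add Z).h (((V6.smul .w X).add (V6.smul .u Y)).add Z) = .z := by
      apply ev_inj hF hω
      rw [← herm_toF hF hω, ← v2]
      exact hL.herm1 hF _ _ |> fun h' => h'
    have iR : (((V6.smul .u X).add (V6.smul .w Y)).add Z).h (((V6.smul .u X).add (V6.smul .w Y)).add Z) = .z := by
      apply ev_inj hF hω
      rw [← herm_toF hF hω, ← v3]
      exact hL.herm1 hF _ _ |> fun h' => h'
    refine ⟨?_, iso_cons.2 ⟨iP, iso_cons.2 ⟨iR, hr⟩⟩⟩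
    have e6 := dd_eq h p
    have e7 : t ((X.add Y).add Z |>.toF ω) = t (X.toF ω + Y.toF ω + Z.toF ω) := by
      rw [toF_add hF hω, toF_add hF hω]
    rw [val_cons, val_cons, val_cons, val_cons, val_cons, val_cons, e1, e2, e3, e4, e7, e6]
    have hW := p.ti hF
    have mu : X.toF ω ∈ Submodule.span F {X.toF ω, Y.toF ω, Z.toF ω} := Submodule.subset_span (by simp)
    have mv : Y.toF ω ∈ Submodule.span F {X.toF ω, Y.toF ω, Z.toF ω} := Submodule.subset_span (by simp)
    have mw : Z.toF ω ∈ Submodule.span F {X.toF ω, Y.toF ω, Z.toF ω} := Submodule.subset_span (by simp)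
    have n4 := t_mem (t := t) (Submodule.add_mem _ mu mv)
    have n5 := t_mem (t := t) (Submodule.add_mem _ mu mw)
    have n6 := t_mem (t := t) (Submodule.add_mem _ mv mw)
    have n7 := t_mem (t := t) (Submodule.add_mem _ (Submodule.add_mem _ mu mv) mw)
    have cm := fun {a b : K} (ha : a ∈ MW t (Submodule.span F {X.toF ω, Y.toF ω, Z.toF ω}))
      (hb : b ∈ MW t (Submodule.span F {X.toF ω, Y.toF ω, Z.toF ω})) => MW_comm h hW ha hb
    generalize t (X.toF ω) = U at *
    generalize t (Y.toF ω) = V at *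
    generalize t (Z.toF ω) = W at *
    generalize t (X.toF ω + Y.toF ω) = A at *
    generalize t (X.toF ω + Z.toF ω) = B at *
    generalize t (Y.toF ω + Z.toF ω) = C at *
    generalize t (X.toF ω + Y.toF ω + Z.toF ω) = D at *
    generalize t ((((V6.smul .w X).add (V6.smul .u Y)).add Z).toF ω) = P at *
    generalize t ((((V6.smul .u X).add (V6.smul .w Y)).add Z).toF ω) = R at *
    have k1 : C * A * B * D = D * (A * C * B) := by
      rw [cm (mul_mem (mul_mem n6 n4) n5) n7, cm n6 n4]
    have k2 : A * C * B * (P * R) = 1 := by rw [← mul_assoc]; exact e5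
    calc U * (V * (W * (D * val t ω r))) = U * V * W * D * 1 * val t ω r := by group
      _ = U * V * W * D * (A * C * B * (P * R)) * val t ω r := by rw [k2]
      _ = U * V * W * (D * (A * C * B)) * P * R * val t ω r := by group
      _ = U * V * W * (C * A * B * D) * P * R * val t ω r := by rw [k1]
      _ = _ := by group

/-- a move up to a central factor at a position -/
theorem atI_soundZ {z : K} (hz : ∀ k : K, k * z = z * k) {g : List V6 → Option (List V6)}
    (hg : ∀ w w', iso w = true → g w = some w' → val t ω w = z * val t ω w' ∧ iso w' = true) :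
    ∀ (n : ℕ) (w w' : List V6), iso w = true → atI g n w = some w' → val t ω w = z * val t ω w' ∧ iso w' = true
  | 0, w, w', hw, hs => hg w w' hw hs
  | n + 1, a :: w, w', hw, hs => by
    rw [iso_cons] at hw
    simp only [atI, Option.map_eq_some_iff] at hs
    obtain ⟨w₁, h1, h2⟩ := hs
    obtain ⟨h3, h4⟩ := atI_soundZ hz hg n w w₁ hw.2 h1
    rw [← h2]
    exact ⟨by rw [val_cons, val_cons, h3, ← mul_assoc, ← mul_assoc, hz], iso_cons.2 ⟨hw.1, h4⟩⟩
  | n + 1, [], w', hw, hs => by simp [atI] at hs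

theorem rel_of_chkQ (hf : Function.Surjective f) (hZ : f.ker ≤ center K) {R : List V6} {l₁ : List Op} {n : ℕ}
    {s : List V6} {c : Q} {l₂ : List Op} (hc : chkQ R l₁ n s c l₂ = true) :
    val t ω R = dd t (ee 0) (ee 1) (c.ev ω • ee 2) := by
  simp only [chkQ, Bool.and_eq_true] at hc
  obtain ⟨h1, h2, h3, h4⟩ := hc
  split at h4
  · exact absurd h4 (by simp)
  rename_i R₁ h5
  split at h4
  · exact absurd h4 (by simp)
  rename_i R₂ h6
  split at h4
  swap
  · exact absurd h4 (by simp)
  rename_i h7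
  have hc0 := ev_ne_zero hω hF (of_decide_eq_true h3)
  obtain ⟨k1, k2⟩ := run_sound hω h l₁ R R₁ h1 h5
  obtain ⟨b0, b1, b2⟩ := toF_E (ω := ω) hω
  have p := (tri_std hω h hc0).act (gW hF ω s)
  have a0 := act_gW (hF := hF) hω s h2 E0
  have a1 := act_gW (hF := hF) hω s h2 E1
  have a2 := act_gW (hF := hF) hω s h2 (V6.smul c E2)
  rw [b0] at a0
  rw [b1] at a1
  rw [toF_smul hF hω, b2] at a2
  have e := dd_act h hf hZ (tri_std hω h hc0) (gW hF ω s)
  rw [a0, a1, a2] at p e
  have hz : ∀ k : K, k * dd t ((actW s E0).toF ω) ((actW s E1).toF ω) ((actW s (V6.smul c E2)).toF ω) =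
      dd t ((actW s E0).toF ω) ((actW s E1).toF ω) ((actW s (V6.smul c E2)).toF ω) * k :=
    fun k => mem_center_iff.1 (hZ (dd_ker h p)) k
  obtain ⟨k3, k4⟩ := atI_soundZ hω h hz (fun w w' => fQ_sound hω h p) n R₁ R₂ k2 h6
  obtain ⟨k5, -⟩ := run_sound hω h l₂ R₂ [] k4 h7
  rw [k1, k3, k5, val_nil, mul_one, e]

end Sound

end Cfsg.Agent.H486.US
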